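import Cfsg.Agent.H133.Ore.Tools
import Cfsg.Agent.H511.Ore.WRow
import Cfsg.Agent.H555.TwoSp.CoThreeFacts
import Cfsg.Agent.H121.Cyc.Mathieu
import Cfsg.Agent.H604.Cop.Conway
import Cfsg.Agent.H49.CoStab

/-!
# ORE (S2443), T1 for `Co3`: `|C(g)| ≤ 38` (helper970)
-/

set_option autoImplicit false

open Cfsg Subgroup

namespace Cfsg.Agent.H970.Ore.Deg

open Cfsg.Agent.H653.Sieve Cfsg.Agent.H651.Two Cfsg.Agent.Characters.Core
open Cfsg.Agent.H511.Ore (MinDeg NoDeg DegOn pNE pX tstOn degOn_of_check s4x)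
open Cfsg.Agent.H133.Ore (noDeg_nil minDeg_of_rep exists_order has_of_eq)
open Cfsg.Agent.H777.Ore (IsC)

universe u

def c11 : CD := ⟨11, 2, 5, 2, [(0, 0), (1, 2), (5, -1), (6, 1), (10, -2)], 0, false⟩

def c23 : CD := ⟨23, 1, 11, 2, [(0, 0), (1, 2), (11, -1), (12, 1), (22, -2)], 2, true⟩

def cd : List CD := [c11, c23]

theorem ok : (cd.all (CD.ok 495766656000)) = true := by decide +kernel

def facs : List (ℕ × ℕ) := [(23, 1), (11, 1), (7, 1), (5, 3), (3, 7), (2, 10)]

theorem facs_prime : (facs.all fun pa => Nat.Prime pa.1) = true := by norm_num [facs]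

theorem facs_prod : facProd facs = 495766656000 := by decide +kernel

theorem chk1 : allDiv (22 * 22) (tstOn (pNE 23) 21 [] cd) facs 1 = true := by decide +kernel

theorem chk2 : allDiv (126 * 126) (tstOn (pX 23 11) 21 [] cd) facs 1 = true := by decide +kernel

variable {G : Type u} [Group G]

theorem simple (h : Spor.IsoCo3 G) : IsSimpleGroup G := by
  obtain ⟨e⟩ := h
  have := H49.CoStab.simple_co3
  exact e.isSimpleGroup

theorem card (h : Spor.IsoCo3 G) : Nat.card G = 495766656000 := H555.TwoSp.card_co3 h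

theorem fin (h : Spor.IsoCo3 G) : Finite G := H555.TwoSp.finite_co3 h

theorem not_comm (h : Spor.IsoCo3 G) : ¬ IsMulCommutative G := by
  have := simple h
  exact H604.Cop.Conway.not_comm_of_card (by rw [card h]; norm_num)

theorem cent_zpowers (x : G) :
    centralizer ((zpowers x : Subgroup G) : Set G) = centralizer ({x} : Set G) := by
  ext y
  rw [H555.TwoSp.mem_cent_zpowers, mem_centralizer_singleton_iff]

theorem cent_23 (h : Spor.IsoCo3 G) {x : G} (hx : orderOf x = 23) :
    Nat.card (centralizer ({x} : Set G)) = 23 := by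
  rw [← cent_zpowers]
  exact H555.TwoSp.c23 h _ (by rw [Nat.card_zpowers, hx])

theorem cent_11 (h : Spor.IsoCo3 G) {x : G} (hx : orderOf x = 11) :
    Nat.card (centralizer ({x} : Set G)) = 22 := by
  rw [← cent_zpowers]
  exact H555.TwoSp.c11 h _ (by rw [Nat.card_zpowers, hx])

theorem has (h : Spor.IsoCo3 G) : ∀ d ∈ cd, d.Has G := by
  have := fin h
  intro d hd
  simp only [cd, List.mem_cons, List.not_mem_nil, or_false] at hd
  rcases hd with rfl | rfl
  · obtain ⟨x, hx⟩ := exists_order (card h) (p := 11) (by norm_num) (by norm_num)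
    exact has_of_eq (d := c11) (by norm_num [c11]) hx (cent_11 h hx)
  · obtain ⟨x, hx⟩ := exists_order (card h) (p := 23) (by norm_num) (by norm_num)
    exact has_of_eq (d := c23) (by norm_num [c23]) hx (cent_23 h hx)

theorem minDeg (h : Spor.IsoCo3 G) : MinDeg G 21 := by
  have := simple h
  have := fin h
  exact minDeg_of_rep (not_comm h) (H121.Cyc.co3 h)

/-- **T1 for `Co3`**: `|C(g)| ≤ 38`. -/
theorem isC (h : Spor.IsoCo3 G) {g : G} (hg : Nat.card (centralizer ({g} : Set G)) ≤ 38) : IsC g := by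
  have := simple h
  have := fin h
  have h1 : DegOn G (pNE 23) 22 := degOn_of_check (not_comm h) _ (card h) facs facs_prime facs_prod cd ok (has h)
    (minDeg h) noDeg_nil chk1
  have h2 : DegOn G (pX 23 11) 126 := degOn_of_check (not_comm h) _ (card h) facs facs_prime facs_prod cd ok (has h)
    (minDeg h) noDeg_nil chk2
  have h3 := H511.Ore.T1.of_weight (not_comm h) _ (card h) c23 (has h _ (by simp [cd])) rfl
    (List.all_eq_true.1 ok _ (by simp [cd])) (d₁ := 22) (d₂ := 126) h1 h2 (by norm_num) (by norm_num) (K := 38)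
    (by decide)
  exact h3 g hg

end Cfsg.Agent.H970.Ore.Deg
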