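import Cfsg.Agent.H317.RO.Co3Data

/-!
# An element of `G3 ≅ Co₃` is determined by the images of six rows modulo three (helper970)

The six rows `V0, …, V5` of `SporRec/Co3/ChainData.lean`; the orbit lengths multiply to the order of `Co₃`.
-/

set_option autoImplicit false

namespace Cfsg.Agent.H970.Ore.Base6

open Subgroup Cfsg Cfsg.Agent.Lib.PackMat Cfsg.Agent.SporRec.LeechMod3 Cfsg.Agent.SporRec.LeechChain
  Cfsg.Agent.SporRec.Co3.MatData Cfsg.Agent.SporRec.Co3.ChainData Cfsg.Agent.SporRec.Co3.Chain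

theorem finite_co0 : Finite Co0 :=
  Nat.finite_of_card_ne_zero (by rw [Cfsg.Agent.S0397.result]; norm_num)

/-- the elements fixing a row -/
def stR (R : ℕ) : Subgroup Co0 where
  carrier := {g | act (rv R) g = rv R}
  one_mem' := act_one _
  mul_mem' := by
    intro g h hg hh
    show act (rv R) (g * h) = rv R
    rw [act_mul, show act (rv R) g = rv R from hg]
    exact hh
  inv_mem' := by
    intro x hx
    have h1 : act (act (rv R) x) x⁻¹ = rv R := by rw [← act_mul, mul_inv_cancel, act_one]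
    rw [show act (rv R) x = rv R from hx] at h1
    exact h1

theorem fixc {K : Subgroup Co0} {c R : ℕ} (h : HasCode K c) (hR : OkR cfg R)
    (hf : Nat.beq (run cfg [c] R) R = true) : HasCode (K ⊓ stR R) c := by
  obtain ⟨h1, g, hg, hr⟩ := h
  refine ⟨h1, g, ⟨hg, ?_⟩, hr⟩
  have h2 := (run_rv (w := [c]) (by
    intro g hg
    rw [List.mem_singleton] at hg
    rw [hg]; exact h1) hR).2
  rw [Nat.eq_of_beq_eq_true hf, List.map_cons, List.map_nil, List.prod_cons, List.prod_nil, mul_one, ← hr] at h2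
  exact h2.symm

/-- the stabilisers -/
def K1 : Subgroup Co0 := G3 ⊓ stR V0
def K2 : Subgroup Co0 := K1 ⊓ stR V1
def K3 : Subgroup Co0 := K2 ⊓ stR V2
def K4 : Subgroup Co0 := K3 ⊓ stR V3
def K5 : Subgroup Co0 := K4 ⊓ stR V4
def K6 : Subgroup Co0 := K5 ⊓ stR V5

theorem hasCode0 : ∀ c ∈ gs0, HasCode G3 c := by
  intro c hc
  obtain ⟨i, hi, rfl⟩ := List.getElem_of_mem hc
  have hi' : i < 8 := hi
  obtain ⟨g, hg, h1, h2⟩ := exists_el i hi'
  rw [List.getD_eq_getElem _ _ hi] at h1 h2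
  exact ⟨h1, g, hg, h2⟩

theorem hasCode1 : ∀ c ∈ gs1, HasCode K1 c :=
  mem_two l1 (HasCode K1) (fixc (HasCode.word hasCode0 word0_0) (okR_of row0) fixr0_0)
    (fixc (HasCode.word hasCode0 word0_1) (okR_of row0) fixr0_1)

theorem hasCode2 : ∀ c ∈ gs2, HasCode K2 c :=
  mem_two l2 (HasCode K2) (fixc (HasCode.word hasCode1 word1_0) (okR_of row1) fixr1_0)
    (fixc (HasCode.word hasCode1 word1_1) (okR_of row1) fixr1_1)

theorem hasCode3 : ∀ c ∈ gs3, HasCode K3 c :=
  mem_two l3 (HasCode K3) (fixc (HasCode.word hasCode2 word2_0) (okR_of row2) fixr2_0)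
    (fixc (HasCode.word hasCode2 word2_1) (okR_of row2) fixr2_1)

theorem hasCode4 : ∀ c ∈ gs4, HasCode K4 c :=
  mem_three l4 (HasCode K4) (fixc (HasCode.word hasCode3 word3_0) (okR_of row3) fixr3_0)
    (fixc (HasCode.word hasCode3 word3_1) (okR_of row3) fixr3_1)
    (fixc (HasCode.word hasCode3 word3_2) (okR_of row3) fixr3_2)

theorem hasCode5 : ∀ c ∈ gs5, HasCode K5 c :=
  mem_two l5 (HasCode K5) (fixc (HasCode.word hasCode4 word4_0) (okR_of row4) fixr4_0)
    (fixc (HasCode.word hasCode4 word4_1) (okR_of row4) fixr4_1)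

theorem step_of {K : Subgroup Co0} {gs : List ℕ} (hgs : ∀ c ∈ gs, HasCode K c) {V : ℕ} (hV : OkR cfg V)
    {ws : List (List ℕ)} (h : incr gs V ws = true) {n : ℕ} (hn : ws.length = n) :
    n * Nat.card ↥(K ⊓ stR V) ≤ Nat.card ↥K := by
  have := finite_co0
  have h1 := step (K' := K ⊓ stR V) inf_le_left hgs hV (fun g hg => hg.2) h inferInstance
  rwa [hn] at h1

theorem card_K6 : Nat.card ↥K6 = 1 := by
  have := finite_co0
  have s0 : 552 * Nat.card ↥K1 ≤ Nat.card ↥G3 := step_of hasCode0 (okR_of row0) inc0 len0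
  have s1 : 275 * Nat.card ↥K2 ≤ Nat.card ↥K1 := step_of hasCode1 (okR_of row1) inc1 len1
  have s2 : 162 * Nat.card ↥K3 ≤ Nat.card ↥K2 := step_of hasCode2 (okR_of row2) inc2 len2
  have s3 : 105 * Nat.card ↥K4 ≤ Nat.card ↥K3 := step_of hasCode3 (okR_of row3) inc3 len3
  have s4 : 64 * Nat.card ↥K5 ≤ Nat.card ↥K4 := step_of hasCode4 (okR_of row4) inc4 len4
  have s5 : 3 * Nat.card ↥K6 ≤ Nat.card ↥K5 := step_of hasCode5 (okR_of row5) inc5 len5
  have h := isCo3_G3.2
  have hpos : 0 < Nat.card ↥K6 := Nat.card_pos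
  generalize Nat.card ↥K6 = a at *
  generalize Nat.card ↥K5 = b at *
  generalize Nat.card ↥K4 = c at *
  generalize Nat.card ↥K3 = d at *
  generalize Nat.card ↥K2 = e at *
  generalize Nat.card ↥K1 = f at *
  omega

/-- the six rows -/
def VV : List ℕ := [V0, V1, V2, V3, V4, V5]

/-- **an element of `G3` is determined by the images of six rows** -/
theorem eq_of_rows {g h : G3} (H : ∀ R ∈ VV, act (rv R) (g : Co0) = act (rv R) (h : Co0)) : g = h := by
  have key : ∀ R ∈ VV, (g : Co0) * (h : Co0)⁻¹ ∈ stR R := by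
    intro R hR
    show act (rv R) _ = rv R
    rw [act_mul, H R hR, ← act_mul, mul_inv_cancel, act_one]
  have hm : (g : Co0) * (h : Co0)⁻¹ ∈ K6 :=
    ⟨⟨⟨⟨⟨⟨G3.mul_mem g.2 (G3.inv_mem h.2), key V0 (by simp [VV])⟩, key V1 (by simp [VV])⟩, key V2 (by simp [VV])⟩,
      key V3 (by simp [VV])⟩, key V4 (by simp [VV])⟩, key V5 (by simp [VV])⟩
  rw [Subgroup.card_eq_one.1 card_K6, Subgroup.mem_bot, mul_inv_eq_one] at hm
  exact Subtype.ext hm

end Cfsg.Agent.H970.Ore.Base6
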