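import Cfsg.Agent.H970.Ore.SpCover
import Cfsg.Agent.H970.Ore.Tab

/-!
# Every element of `C(Z) = 2.Sp₆(2)` in `G3 ≅ Co₃` is conjugate to one of 60 words (helper970)
-/

set_option autoImplicit false

namespace Cfsg.Agent.H970.Ore.CZ

open Subgroup Cfsg Cfsg.Agent.SporRec.Co3.Chain Cfsg.Agent.SporRec.Co3.Ident
open Cfsg.Agent.SporRec.TwoSp6.Sp Cfsg.Agent.SporRec.TwoSp6.Model Cfsg.Agent.SporRec.TwoSp6.Lift
open Cfsg.Agent.H970.Ore.SpTool Cfsg.Agent.H970.Ore.SpDat Cfsg.Agent.H970.Ore.Tab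
open Cfsg.Agent.KFacts.Co3.AutM (exists_pi)
open Cfsg.Agent.KFacts.Co3.Syl (centralizer_Z)

theorem E_A (i : Fin 7) : E i.val = A i := by
  have h1 : i.val < 8 := by omega
  unfold E e0
  rw [if_pos h1, dif_pos h1]
  rfl

theorem val_Z : val [0, 0] = Z := by
  have h := E_A 0
  rw [val_cons, val_cons, val_nil, mul_one]
  change E 0 * E 0 = Z
  have h' : E 0 = A 0 := h
  rw [h']
  rfl

/-- the letter as a generator of `M` -/
noncomputable def gN (k : ℕ) : M := if h : k < 7 then gen ⟨k, h⟩ else 1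

theorem phi0_gN {k : ℕ} (h : k < 7) : phi0 (gN k) = E k := by
  unfold gN
  rw [dif_pos h, phi0_gen, ← E_A]

theorem rL_lt : ∀ j < 30, ∀ k ∈ rL j, k < 7 := by decide

theorem phi0_word {l : List ℕ} (h : ∀ k ∈ l, k < 7) : phi0 ((l.map gN).prod) = val l := by
  induction l with
  | nil => exact map_one _
  | cons k l ih =>
    rw [List.map_cons, List.prod_cons, map_mul, phi0_gN (h k List.mem_cons_self),
      ih fun k hk => h k (List.mem_cons_of_mem _ hk), val_cons]

theorem pi_word {π : M →* S} (hπ : ∀ i, π (gen i) = tr (v i)) {l : List ℕ} (h : ∀ k ∈ l, k < 7) :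
    π ((l.map gN).prod) = (l.map fun i => tr (enc (vcN i))).prod := by
  induction l with
  | nil => exact map_one _
  | cons k l ih =>
    rw [List.map_cons, List.prod_cons, map_mul, ih fun k hk => h k (List.mem_cons_of_mem _ hk), List.map_cons,
      List.prod_cons]
    congr 1
    have hk := h k List.mem_cons_self
    unfold gN
    rw [dif_pos hk, hπ]
    rfl

/-- **Every element of `C(Z)` is conjugate in `C(Z)` to one of 60 words.** -/
theorem cover_Z {g : G3} (hg : g * Z = Z * g) : ∃ j < 30, ∃ c : G3, c * Z = Z * c ∧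
    (c * g * c⁻¹ = val (rL j) ∨ c * g * c⁻¹ = val ([0, 0] ++ rL j)) := by
  have hmem : g ∈ phi0.range := by
    rw [← centralizer_Z, mem_centralizer_singleton_iff]
    exact hg
  obtain ⟨m, rfl⟩ := hmem
  obtain ⟨π, hπ, X⟩ := exists_pi
  obtain ⟨j, hj, c', hc'⟩ := SpCover.cover (π m)
  obtain ⟨c, rfl⟩ := X.surj c'
  have hr : SpCover.rep j = π (((rL j).map gN).prod) := by
    rw [pi_word hπ (rL_lt j hj)]
    exact SpCover.rep_eq hj
  have h1 : π (c * m * c⁻¹ * (((rL j).map gN).prod)⁻¹) = 1 := by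
    rw [map_mul, map_mul, map_mul, map_inv, map_inv, hc', hr, mul_inv_cancel]
  have hcz : phi0 c * Z = Z * phi0 c := by
    rw [← phi0_z, ← map_mul, ← map_mul, z_comm]
  refine ⟨j, hj, phi0 c, hcz, ?_⟩
  have h2 : phi0 c * phi0 m * (phi0 c)⁻¹ = phi0 (c * m * c⁻¹) := by
    rw [map_mul, map_mul, map_inv]
  rw [h2]
  rcases X.ker _ h1 with h | h
  · left
    rw [mul_inv_eq_one] at h
    rw [h, phi0_word (rL_lt j hj)]
  · right
    rw [mul_inv_eq_iff_eq_mul] at h
    rw [h, map_mul, phi0_z, phi0_word (rL_lt j hj), val_append, val_Z]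

end Cfsg.Agent.H970.Ore.CZ
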