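import Cfsg.Agent.H970.Ore.CZ
import Cfsg.Agent.H777.Ore.Base

/-!
# Every element of `Co₃` commuting with a `2A`-involution is a commutator (helper970; the words are generated by a script)
-/

set_option autoImplicit false
set_option maxRecDepth 100000

namespace Cfsg.Agent.H970.Ore.CZComm

open Subgroup Cfsg Cfsg.Agent.SporRec.Co3.Chain Cfsg.Agent.SporRec.Co3.Ident Cfsg.Agent.H777.Ore
open Cfsg.Agent.H970.Ore.SpDat Cfsg.Agent.H970.Ore.Tab Cfsg.Agent.H970.Ore.CZ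

/-- the pairs of words: entry `2 j + e` for the representative `Z ^ e r_j` -/
def cw : List (List ℕ × List ℕ) := [
  ([],[]), ([17,16,14,13,12,13,12,11,11,11,9,9,8,9,8,8,9,9,8,2,6,7,3],[17,14,14,16,15,14,12,12,12,12,11,11,10,1]),
  ([16,14,12,13,13,12,12,12,10,10,10,11,8,8,9,8,9,9,0,7,2,1],[16,16,10,10,10,5]),
  ([18,16,14,16,13,13,10,10,10,11,10,11,8,9,8,9,8,8,9,8,0,7,2,6,3],[18,14,16,13,12,10,11,11,7,5,0]),
  ([16,16,12,12,12,12,13,11,10,10,10,8,8,9,8,8,9,9,0,7,3,1,5],[17,13,12,12,13,10,11,11,10,10,10,11,0,3]),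
  ([18,16,16,16,14,12,12,12,13,12,12,12,12,10,10,10,11,10,10,9,8,9,8,1,7,3],[14,16,16,13,12,12,12,10,11,8,1,7,0]),
  ([16,16,16,14,13,13,13,12,13,10,11,10,11,8,9,9,8,8,0,6,7,2],[18,16,13,13,11,11,11,10,10,9,8,7,2,7,3]),
  ([16,15,16,16,15,13,13,12,12,13,12,13,10,11,11,10,10,11,11,8,8,9,8,8,9,8,9,3],[16,14,10,8,9,8,9,0,1,7]),
  ([17,16,14,15,15,12,12,10,10,11,9,8,9,8,9,8,9,8,8,5,7,3,7,3],[17,16,13,13,11,10,10,11,11,8,9,9,8,9,8]),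
  ([14,12,12,13,13,11,10,10,11,10,10,8,8,9,8,8,8,8,9,8,9,2,7,5,7,2],[17,16,16,16,13,13,13,10,8,8]),
  ([16,13,13,8,8,9,9,8,9,9,8,8,2,7,7,5,6],[14,16,16,15,13,13,12,12,13,10,10,10,10,10,11,11,8,8,9,0,1,5]),
  ([16,15,15,16,12,13,13,13,12,13,11,10,10,10,10,8,9,9,9,8,9,8,9,7,1,2,3],[17,16,16,14,16,16,13,13,11,9,9,9,1]),
  ([18,16,14,15,12,13,12,13,10,11,10,8,8,7,2,0],[17,14,13,12,13,13,8,9,9,8,9,8,8,0,7,4,3,1]),
  ([17,16,14,15,15,14,12,13,10,11,11,10,10,9,9,9,9,8,8,5,7,1,3,4],[17,14,13,12,13,12,12,10,9,9,6,7,1,3]),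
  ([16,14,15,12,12,13,13,12,10,10,10,10,9,8,9,8,5,7,4],[17,16,14,16,13,12,11,10,9,9,9,9,9,7,1,0,3]),
  ([14,16,14,16,13,12,10,11,10,11,9,8,9,8,8,5,7,7,2],[16,16,14,16,16,13,12,12,13,11,10,10,11,10,0,3,5]),
  ([14,12,12,13,12,12,12,12,10,11,11,10,11,11,8,9,8,9,7,5,2,4],[17,16,16,16,14,13,12,12,13,9,9,1,7,7,5,6]),
  ([18,14,14,15,13,12,13,11,11,11,10,8,9,9,8,8,9,0,3,1,5],[17,16,13,13,12,12,12,13,11,11,8,9,1,5,7,5]),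
  ([16,12,12,12,12,11,11,11,10,10,10,11,10,9,8,9,8,9,8,7,1,0],[18,13,13,12,11,11,10,10,9,9,8,9,9,9,8,7,4]),
  ([14,16,16,16,13,13,13,12,11,10,10,9,9,8,8,9,8,8,3,1],[17,14,16,15,14,13,12,11,11,10,8,9,7,5,4]),
  ([18,14,14,16,16,12,11,11,11,11,10,11,8,9,9,9,8,8,0,5,7,0,1],[18,16,16,15,13,12,11,11,11,8,8,0,7,3]),
  ([17,16,15,15,16,10,10,10,11,10,10,11,11,8,7,5,7,4],[14,14,15,16,12,13,13,13,11,11,8,8,9,8,7,3,7,1]),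
  ([17,14,16,14,16,10,10,10,10,9,9,8,8,9,9,8,2,7,5,3],[18,16,16,14,12,12,11,10,10,10,9,8,9,8,7,0,5]),
  ([18,13,12,12,11,11,11,11,8,9,9,9,9,9,9,8,8,5,7,4],[14,14,15,16,10,11,11,10,10,10,11,10,9,7,2,0,5]),
  ([16,15,13,13,12,12,13,13,10,10,11,11,5,7,2],[17,16,16,13,13,13,11,10,11,9,9,9,9,5,7,5,0]),
  ([18,16,15,14,13,13,12,13,11,11,8,8,9,9,9,1,7,2,3,7],[18,14,14,16,12,13,13,12,13,10,11,10,9,8,7,4,5]),
  ([16,14,15,12,13,11,11,11,8,9,9,8,8,9,8,9,0,5,7,5],[14,14,12,12,10,11,9,7,5,7,4,6]),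
  ([16,15,16,13,12,13,13,12,11,11,8,9,9,9,7,4,3,5,1],[14,12,13,13,12,12,10,10,10,9,8,5,7,2]),
  ([18,14,16,16,14,13,13,11,11,11,10,10,10,8,9,9,8,5,7,6,0,7],[13,11,11,11,11,10,11,8,8,9,8,9,8,7,2,3]),
  ([14,14,16,15,14,12,12,10,10,11,11,10,8,8,7,3,0,7],[16,14,14,16,12,12,12,13,12,11,10,10,10,9,9,8,7,2,5,3]),
  ([18,14,16,16,16,11,10,8,9,8,8,0,7,4,3,2],[18,14,16,13,12,13,12,12,10,11,10,10,8,8,7,4,7]),
  ([17,14,13,12,12,11,11,10,10,8,9,9,9,9,8,9,8,8,2,7,3,5],[17,16,12,13,13,13,12,13,11,10,11,8,8,2,7,5]),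
  ([16,16,15,15,13,12,12,13,10,9,8,9,8,8,8,1,7,5,4,3],[17,16,14,14,13,12,10,10,8,9,9,9,8,8,2,7,3,1]),
  ([14,16,16,14,16,10,11,11,10,11,8,9,8,8,9,9,9,9,0,3,4],[16,14,16,12,12,13,13,12,11,10,8,9,8,8,7,3,4,7]),
  ([18,16,14,15,12,13,13,12,11,10,10,10,10,9,2,7,7,5],[17,16,13,12,13,12,10,10,11,10,10,10,11,11,9,8,9,2,7,0]),
  ([16,14,14,15,12,13,13,11,10,10,10,10,9,8,9,8,9,8,9,7,1,3,4],[18,14,16,14,16,11,8,8,2,5,7,3,4]),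
  ([14,16,14,14,15,12,13,13,12,10,11,9,9,8,8,8,9,8,7,1,7,7],[18,16,14,16,12,13,12,11,10,10,10,10,9,9,8,2,7,5]),
  ([17,14,14,16,15,14,12,13,13,12,12,13,10,11,10,8,9,9,9,0,5,7,7],[14,14,16,15,14,13,10,11,10,10,10,10,0,7,3,5]),
  ([18,14,14,15,16,16,12,13,13,12,12,11,10,10,11,11,8,9,9,9,9,9,8,9,0,7,4],[17,14,14,16,16,13,12,13,9,7,2,1,0]),
  ([17,14,14,12,12,13,12,12,12,11,10,10,8,8,9,8,7,1,5,6],[18,16,14,14,16,13,12,10,10,10,11,10,11,10,10,1,7,3]),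
  ([18,14,12,12,13,11,10,11,10,8,8,9,8,9,8,9,9,1,7,0,3,7],[18,13,13,10,11,11,10,9,9,8,9,8,8,8,9,7,4,7]),
  ([13,12,13,10,10,10,10,11,11,10,11,8,9,8,8,9,9,9,7,0,1,5,6],[18,14,16,15,13,10,10,11,11,11,10,8,8,9,0,7,4]),
  ([17,16,14,14,13,12,13,12,12,10,11,11,10,9,9,8,9,8,8,2,5],[14,12,13,13,11,10,11,10,11,10,9,9,8,2]),
  ([17,16,15,15,16,12,12,12,13,12,13,11,10,11,11,11,10,8,9,9,9,9,8,1,5,7,6,3],[14,16,15,12,12,8,8,9,9,8,8,3,6]),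
  ([17,16,16,13,10,11,11,10,10,10,8,8,9,8,9,8,8,8,9,5,7,7,6],[17,16,16,15,12,10,9,9,8,9,8,7,5,4,3]),
  ([17,16,16,13,12,13,10,9,5,7,3,0,2],[16,16,15,15,13,10,10,10,9,9,8,8,9,8,8,7,5,7,5]),
  ([14,16,14,16,15,10,10,10,8,8,9,8,9,9,9,9,8,9,0,1,3,2],[16,14,15,15,14,13,13,13,12,11,11,11,8,8,9,1,7,0,3]),
  ([17,14,16,14,16,13,12,13,13,12,13,11,10,10,8,9,8,0,7],[17,16,15,14,13,11,11,11,10,9,9,8,8,8,1,2,5,7]),
  ([18,14,16,14,16,15,12,13,12,12,12,13,11,10,10,10,10,10,8,9,8,8,9,7,2,5],[14,16,15,14,12,12,12,9,9,8,8,8]),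
  ([14,16,16,16,13,13,13,12,10,10,10,10,11,9,9,8,9,9,8,6,7,1],[16,15,14,12,12,13,12,13,11,11,9,9,8,7,5,7,1]),
  ([14,16,16,12,12,13,13,12,10,11,10,8,9,8,9,8,9,8,9,8,7,3],[18,16,14,15,10,11,11,9,9,9,9,9,3,4]),
  ([14,14,15,13,13,12,13,11,11,9,9,8,8,8,7,4],[16,12,12,12,10,11,10,10,11,8,9,8,9,8,9,9,5,7,7,2]),
  ([14,16,12,12,13,12,13,12,10,11,11,10,10,10,9,9,8,8,9,9,7,2,3,4],[16,16,15,12,12,12,13,11,11,10,10,2,5,4]),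
  ([16,14,15,15,12,13,13,13,10,11,11,10,8,7,5,7,4,6],[17,14,16,16,14,11,11,11,10,11,11,9,9,8,9,0,7,3,4]),
  ([18,16,15,16,16,12,11,10,10,10,8,9,0,1,3,2,6],[16,16,14,12,12,13,12,12,12,12,11,10,11,11,11,11,2,7,5,7]),
  ([17,16,14,14,13,13,12,12,12,9,9,8,8,9,8,9,7,1,2,5,6],[16,12,12,13,12,12,13,10,11,10,8,7,3,7]),
  ([17,16,14,12,13,10,10,10,10,11,11,11,8,9,9,9,9,8,9,1,2],[14,14,15,12,10,11,11,10,9,9,8,8,8,0,7,3]),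
  ([18,14,16,16,15,16,13,12,13,13,12,11,11,11,9,1,7,2,5,0],[14,16,15,14,13,11,11,10,8,9,9,9,9,8,9,8,8,7,0,1,3]),
  ([17,16,16,15,15,13,10,10,11,11,11,8,8,9,8,8,9,0,3,2],[14,14,16,13,12,12,12,10,10,11,9,8,9,8,0,7,2,5,7]),
  ([14,16,16,15,15,13,12,13,13,12,8,8,9,8,8,8,8,9,0,5],[16,16,14,12,13,11,10,10,10,10,8,9,8,8,9,1,7])]

/-- the representative -/
def gw (k : ℕ) : List ℕ := if k % 2 = 0 then rL (k / 2) else [0, 0] ++ rL (k / 2)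

theorem chk_all : ((List.range 60).all fun k =>
    chkW ((cw.getD k ([], [])).1 ++ (cw.getD k ([], [])).2)
      (gw k ++ ((cw.getD k ([], [])).2 ++ (cw.getD k ([], [])).1))) = true := by decide +kernel

theorem isC_gw {k : ℕ} (hk : k < 60) : IsC (val (gw k)) := by
  have h := val_eq (List.all_eq_true.1 chk_all k (List.mem_range.2 hk))
  refine ⟨val (cw.getD k ([], [])).1, val (cw.getD k ([], [])).2, ?_⟩
  rw [val_append, val_append, val_append] at h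
  rw [h]
  group

/-- **an element commuting with `Z` is a commutator** -/
theorem isC_of_commute_Z {g : G3} (hg : g * Z = Z * g) : IsC g := by
  obtain ⟨j, hj, c, -, h⟩ := cover_Z hg
  apply IsC.of_conj c
  rcases h with h | h
  · rw [h]
    have h1 := isC_gw (k := 2 * j) (by omega)
    unfold gw at h1
    rwa [if_pos (by omega), Nat.mul_div_cancel_left j (by norm_num)] at h1
  · rw [h]
    have h1 := isC_gw (k := 2 * j + 1) (by omega)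
    unfold gw at h1
    rwa [if_neg (by omega), show (2 * j + 1) / 2 = j by omega] at h1

/-- an element commuting with a conjugate of `Z` -/
theorem isC_of_commute_conj {g t : G3} (ht : IsConj Z t) (hg : g * t = t * g) : IsC g := by
  obtain ⟨x, rfl⟩ := isConj_iff.1 ht
  have h1 : (x⁻¹ * g * x) * Z = Z * (x⁻¹ * g * x) := by
    calc (x⁻¹ * g * x) * Z = x⁻¹ * (g * (x * Z * x⁻¹)) * x := by group
      _ = x⁻¹ * ((x * Z * x⁻¹) * g) * x := by rw [hg]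
      _ = Z * (x⁻¹ * g * x) := by group
  have h2 := (isC_of_commute_Z h1).conj x
  rwa [show x * (x⁻¹ * g * x) * x⁻¹ = g by group] at h2

end Cfsg.Agent.H970.Ore.CZComm
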