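import Cfsg.Agent.H970.Ore.Deg
import Cfsg.Agent.H970.Ore.CZComm
import Cfsg.Agent.H945.Wk.Co3
import Cfsg.Agent.H848.RatB.Co3
import Cfsg.Agent.BpSpor.CoThreeFive
import Cfsg.Agent.H417.Two.Co3Seven

/-!
# ORE (S2443), `Co3`: reduction to the involution centralizers and the 3- and 5-elements (helper970)
-/

set_option autoImplicit false

open Cfsg Subgroup

namespace Cfsg.Agent.H970.Ore.Glue

open Cfsg.Agent.H777.Ore (IsC)
open Cfsg.Agent.SporRec.Co3.Chain (G3 isCo3_G3)
open Cfsg.Agent.SporRec.Co3.Ident (Z)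

theorem iso_G3 : Spor.IsoCo3 G3 := ⟨Cfsg.Agent.SporRec.Co3.Model.equivCo3⟩

theorem card_G3 : Nat.card G3 = 495766656000 := isCo3_G3.2

theorem finite_G3 : Finite G3 := Nat.finite_of_card_ne_zero (by rw [card_G3]; norm_num)

theorem cent_pow_dvd (g : G3) (m : ℕ) :
    Nat.card (centralizer ({g} : Set G3)) ∣ Nat.card (centralizer ({g ^ m} : Set G3)) := by
  refine Subgroup.card_dvd_of_le fun x hx => ?_
  rw [mem_centralizer_singleton_iff] at hx ⊢
  exact (Commute.pow_right (show Commute x g from hx) m).eq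

theorem orderOf_dvd_cent (g : G3) : orderOf g ∣ Nat.card (centralizer ({g} : Set G3)) := by
  rw [← Nat.card_zpowers]
  exact Subgroup.card_dvd_of_le (zpowers_le.2 (mem_centralizer_singleton_iff.2 rfl))

theorem exists_pow {g : G3} {p : ℕ} (_ : p.Prime) (h : p ∣ orderOf g) :
    ∃ y : G3, orderOf y = p ∧ Nat.card (centralizer ({g} : Set G3)) ∣ Nat.card (centralizer ({y} : Set G3)) := by
  have := finite_G3
  obtain ⟨m, hm⟩ := h
  have hpos : 0 < orderOf g := orderOf_pos g
  have hm0 : m ≠ 0 := by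
    rintro rfl
    omega
  refine ⟨g ^ m, ?_, cent_pow_dvd g m⟩
  rw [orderOf_pow' g hm0, hm, Nat.gcd_eq_right (Dvd.intro_left _ rfl), Nat.mul_div_cancel _ (by omega)]

theorem card_cent_congr {X Y : Type*} [Group X] [Group Y] (e : X ≃* Y) (x : X) :
    Nat.card (centralizer ({x} : Set X)) = Nat.card (centralizer ({e x} : Set Y)) := by
  refine Nat.card_congr (Equiv.subtypeEquiv e.toEquiv fun y => ?_)
  change y ∈ centralizer ({x} : Set X) ↔ e y ∈ centralizer ({e x} : Set Y)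
  rw [mem_centralizer_singleton_iff, mem_centralizer_singleton_iff, ← map_mul, ← map_mul]
  exact e.injective.eq_iff.symm

theorem card_cent_five {x : G3} (hx : orderOf x = 5) :
    Nat.card ↥(centralizer ({x} : Set G3)) ∣ 2 ^ 5 * 3 * 5 ^ 3 := by
  have h1 := BpSpor.CoThreeFive.card_dvd (x := Cfsg.Agent.SporRec.Co3.Model.equivCo3 x)
    (by rw [MulEquiv.orderOf_eq, hx])
  have h2 := card_cent_congr Cfsg.Agent.SporRec.Co3.Model.equivCo3 x
  rwa [← h2] at h1

theorem prime_mem {p : ℕ} (hp : p.Prime) (h : p ∣ 495766656000) : p = 2 ∨ p = 3 ∨ p = 5 ∨ p = 7 ∨ p = 11 ∨ p = 23 := by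
  have h1 : p ∣ 2 ^ 10 * (3 ^ 7 * (5 ^ 3 * (7 * (11 * 23)))) := by
    norm_num
    exact h
  rcases (hp.dvd_mul).1 h1 with h | h
  · exact Or.inl ((Nat.prime_dvd_prime_iff_eq hp (by norm_num)).1 (hp.dvd_of_dvd_pow h))
  rcases (hp.dvd_mul).1 h with h | h
  · exact Or.inr (Or.inl ((Nat.prime_dvd_prime_iff_eq hp (by norm_num)).1 (hp.dvd_of_dvd_pow h)))
  rcases (hp.dvd_mul).1 h with h | h
  · exact Or.inr (Or.inr (Or.inl ((Nat.prime_dvd_prime_iff_eq hp (by norm_num)).1 (hp.dvd_of_dvd_pow h))))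
  rcases (hp.dvd_mul).1 h with h | h
  · exact Or.inr (Or.inr (Or.inr (Or.inl ((Nat.prime_dvd_prime_iff_eq hp (by norm_num)).1 h))))
  rcases (hp.dvd_mul).1 h with h | h
  · exact Or.inr (Or.inr (Or.inr (Or.inr (Or.inl ((Nat.prime_dvd_prime_iff_eq hp (by norm_num)).1 h)))))
  · exact Or.inr (Or.inr (Or.inr (Or.inr (Or.inr ((Nat.prime_dvd_prime_iff_eq hp (by norm_num)).1 h)))))

theorem div375 : ∀ c ∈ Nat.divisors 375, ¬ 25 ∣ c → c ≤ 15 := by decide +kernel

theorem isC_of_odd (h3 : ∀ (g : G3) (n : ℕ), g ^ 3 ^ n = 1 → IsC g) (h5 : ∀ (g : G3) (n : ℕ), g ^ 5 ^ n = 1 → IsC g)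
    {g : G3} (hodd : ¬ 2 ∣ Nat.card (centralizer ({g} : Set G3))) : IsC g := by
  have hfin := finite_G3
  have ho := orderOf_dvd_cent g
  have hcop : Nat.Coprime (Nat.card (centralizer ({g} : Set G3))) 2 :=
    ((Nat.Prime.coprime_iff_not_dvd Nat.prime_two).2 hodd).symm
  have hpr : ∀ p : ℕ, p.Prime → p ∣ orderOf g → p = 3 ∨ p = 5 ∨ p = 7 ∨ p = 11 ∨ p = 23 := by
    intro p hp hd
    rcases prime_mem hp (card_G3 ▸ (hd.trans (orderOf_dvd_natCard g))) with h | h
    · subst h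
      exact absurd (hd.trans ho) hodd
    · exact h
  by_cases h23 : 23 ∣ orderOf g
  · obtain ⟨y, hy, hd⟩ := exists_pow (by norm_num) h23
    rw [Deg.cent_23 iso_G3 hy] at hd
    exact Deg.isC iso_G3 ((Nat.le_of_dvd (by norm_num) hd).trans (by norm_num))
  by_cases h11 : 11 ∣ orderOf g
  · obtain ⟨y, hy, hd⟩ := exists_pow (by norm_num) h11
    rw [Deg.cent_11 iso_G3 hy] at hd
    exact Deg.isC iso_G3 ((Nat.le_of_dvd (by norm_num) hd).trans (by norm_num))
  by_cases h7 : 7 ∣ orderOf g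
  · obtain ⟨y, hy, hd⟩ := exists_pow (by norm_num) h7
    rw [H417.Two.Co3Seven.card_cent hy] at hd
    have h1 : Nat.card (centralizer ({g} : Set G3)) ∣ 2 * 21 := hd
    exact Deg.isC iso_G3 ((Nat.le_of_dvd (by norm_num) (hcop.dvd_of_dvd_mul_left h1)).trans (by norm_num))
  by_cases h15 : 5 ∣ orderOf g ∧ 3 ∣ orderOf g
  · obtain ⟨y, hy, hd⟩ := exists_pow (by norm_num) h15.1
    obtain ⟨z, hz, hdz⟩ := exists_pow (by norm_num) h15.2
    have h1 : Nat.card (centralizer ({g} : Set G3)) ∣ 2 ^ 5 * 375 := hd.trans (card_cent_five hy)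
    have h2 : Nat.card (centralizer ({g} : Set G3)) ∣ 375 := (Nat.Coprime.pow_right 5 hcop).dvd_of_dvd_mul_left h1
    have h25 : ¬ 25 ∣ Nat.card (centralizer ({g} : Set G3)) := fun h => H848.RatB.Co3.not_dvd_three hz (h.trans hdz)
    exact Deg.isC iso_G3 ((div375 _ (Nat.mem_divisors.2 ⟨h2, by norm_num⟩) h25).trans (by norm_num))
  have hpos : orderOf g ≠ 0 := (orderOf_pos g).ne'
  by_cases h5' : 5 ∣ orderOf g
  · have h1 : orderOf g = 5 ^ (orderOf g).primeFactorsList.length :=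
      Nat.eq_prime_pow_of_unique_prime_dvd hpos fun {p} hp hd => by
        rcases hpr p hp hd with h | h | h | h | h
        · subst h; exact absurd ⟨h5', hd⟩ h15
        · exact h
        · subst h; exact absurd hd h7
        · subst h; exact absurd hd h11
        · subst h; exact absurd hd h23
    exact h5 g _ (by rw [← h1]; exact pow_orderOf_eq_one g)
  · have h1 : orderOf g = 3 ^ (orderOf g).primeFactorsList.length :=
      Nat.eq_prime_pow_of_unique_prime_dvd hpos fun {p} hp hd => by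
        rcases hpr p hp hd with h | h | h | h | h
        · exact h
        · subst h; exact absurd hd h5'
        · subst h; exact absurd hd h7
        · subst h; exact absurd hd h11
        · subst h; exact absurd hd h23
    exact h3 g _ (by rw [← h1]; exact pow_orderOf_eq_one g)

/-- the involutions, for any involution `w` outside the class of `Z` -/
theorem inv_cases {w : G3} (hw : orderOf w = 2) (hwZ : ¬ IsConj Z w) {t : G3} (ht : orderOf t = 2) :
    IsConj Z t ∨ IsConj w t := by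
  obtain ⟨w', -, -, h⟩ := H945.Wk.Co3.exists_BB
  have key : ∀ {a b c : G3}, c⁻¹ * a * c = b → IsConj b a := by
    rintro a b c rfl
    exact isConj_iff.2 ⟨c, by group⟩
  obtain ⟨a, ha | ha⟩ := h w hw
  · exact absurd (key ha) hwZ
  obtain ⟨b, hb | hb⟩ := h t ht
  · exact Or.inl (key hb)
  · exact Or.inr ((key ha).symm.trans (key hb))

/-- **The reduction.** -/
theorem allC {w : G3} (hw : orderOf w = 2) (hwZ : ¬ IsConj Z w) (h2 : ∀ g : G3, g * w = w * g → IsC g)
    (h3 : ∀ (g : G3) (n : ℕ), g ^ 3 ^ n = 1 → IsC g) (h5 : ∀ (g : G3) (n : ℕ), g ^ 5 ^ n = 1 → IsC g) (g : G3) :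
    IsC g := by
  have := finite_G3
  by_cases h : 2 ∣ Nat.card (centralizer ({g} : Set G3))
  · obtain ⟨⟨t, htm⟩, ht⟩ := exists_prime_orderOf_dvd_card' 2 h
    have ht' : orderOf t = 2 := by
      rw [Subgroup.orderOf_mk] at ht
      exact ht
    have hgt : t * g = g * t := mem_centralizer_singleton_iff.1 htm
    rcases inv_cases hw hwZ ht' with hc | hc
    · exact CZComm.isC_of_commute_conj hc hgt.symm
    · obtain ⟨x, rfl⟩ := isConj_iff.1 hc
      have h1 : (x⁻¹ * g * x) * w = w * (x⁻¹ * g * x) := by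
        calc (x⁻¹ * g * x) * w = x⁻¹ * (g * (x * w * x⁻¹)) * x := by group
          _ = x⁻¹ * ((x * w * x⁻¹) * g) * x := by rw [hgt]
          _ = w * (x⁻¹ * g * x) := by group
      have h4 := (h2 _ h1).conj x
      have h5 : x * (x⁻¹ * g * x) * x⁻¹ = g := by group
      rwa [h5] at h4
  · exact isC_of_odd h3 h5 h

end Cfsg.Agent.H970.Ore.Glue
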