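import Cfsg.Agent.H970.Ore.SpDat
import Cfsg.Agent.H1.CoverTool

/-!
# Every element of `Sp₆(2)` is conjugate to one of 30 words (helper970)
-/

set_option autoImplicit false

namespace Cfsg.Agent.H970.Ore.SpCover

open Cfsg Cfsg.Agent.SporRec.TwoSp6.Sp Cfsg.Agent.H970.Ore.SpTool Cfsg.Agent.H970.Ore.SpDat

/-- the representative -/
def rep (j : ℕ) : S := wd (rCs.getD j [])

/-- the representatives -/
def RS : Set S := {g | ∃ j < 30, g = rep j}

/-- the transvections -/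
def DS : Set S := {g | ∃ d < 64, d ≠ 0 ∧ g = tr (enc d)}

theorem enc_ne {d : ℕ} (hd : d < 64) (h0 : d ≠ 0) : enc d ≠ 0 := by
  have h : ∀ c < 64, c ≠ 0 → enc c ≠ 0 := by decide +kernel
  exact h d hd h0

theorem enc_zero : enc 0 = 0 := by decide

theorem mem_DS {u : V} (hu : u ≠ 0) : tr u ∈ DS := by
  obtain ⟨c, hc, rfl⟩ := exists_enc u
  exact ⟨c, hc, fun h => hu (by rw [h, enc_zero]), rfl⟩

theorem conj_DS (g : S) {d : S} (hd : d ∈ DS) : g * d * g⁻¹ ∈ DS := by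
  obtain ⟨c, hc, h0, rfl⟩ := hd
  rw [conj_tr]
  apply mem_DS
  intro h
  apply enc_ne hc h0
  have h1 : act g⁻¹ (act g (enc c)) = act g⁻¹ 0 := by rw [h]
  rw [← act_mul, inv_mul_cancel, act_one] at h1
  rw [h1]
  exact Matrix.mulVec_zero _

theorem inv_DS {d : S} (hd : d ∈ DS) : d⁻¹ ∈ DS := by
  obtain ⟨c, hc, h0, rfl⟩ := hd
  rw [inv_eq_of_mul_eq_one_right (tr_sq _)]
  exact ⟨c, hc, h0, rfl⟩

theorem closure_DS : Subgroup.closure DS = ⊤ := by
  rw [eq_top_iff, ← closure_v, Subgroup.closure_le]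
  rintro _ ⟨i, rfl⟩
  exact Subgroup.subset_closure (mem_DS (v_ne i))

theorem one_mem_RS : (1 : S) ∈ RS := ⟨0, by norm_num, rfl⟩

theorem rCs_lt : ∀ j < 30, ∀ d ∈ rCs.getD j [], d < 64 := by decide

theorem bas_lt : ∀ b ∈ bas, b < 64 := by decide

theorem mul_RS {r d : S} (hr : r ∈ RS) (hd : d ∈ DS) : ∃ c : S, c * (r * d) * c⁻¹ ∈ RS := by
  obtain ⟨j, hj, rfl⟩ := hr
  obtain ⟨d, hd, h0, rfl⟩ := hd
  obtain ⟨r, hr⟩ := rows j hj
  have h1 := List.all_eq_true.1 hr d (List.mem_range.2 hd)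
  rw [Bool.or_eq_true, Nat.beq_eq] at h1
  rcases h1 with h1 | h1
  · exact absurd h1 h0
  unfold chk1 at h1
  rw [Bool.and_eq_true, Nat.blt_eq] at h1
  generalize ent r d = e at h1
  obtain ⟨h2, h3⟩ := h1
  refine ⟨el 6 (e / 32), e % 32, h2, ?_⟩
  rw [mul_inv_eq_iff_eq_mul]
  apply eq_of_bas
  intro b hb
  have hb64 := bas_lt b hb
  have h4 := Nat.eq_of_beq_eq_true (List.all_eq_true.1 h3 b hb)
  have hs := (sk_eq' d hd b hb64).2
  obtain ⟨k1, k2⟩ := act_wd (rCs_lt j hj) hs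
  obtain ⟨k3, -⟩ := act_el 6 (e / 32) k2
  obtain ⟨k4, k5⟩ := act_el 6 (e / 32) hb64
  obtain ⟨k6, -⟩ := act_wd (rCs_lt (e % 32) h2) k5
  rw [act_mul, act_mul, act_sk hd hb64]
  show act (el 6 (e / 32)) (act (wd (rCs.getD j [])) _) = act (wd (rCs.getD (e % 32) []) * _) _
  rw [k1, k3, act_mul, k4, k6]
  exact congrArg enc h4

/-- **Every element of `Sp₆(2)` is conjugate to one of 30 words.** -/
theorem cover (g : S) : ∃ j < 30, ∃ c : S, c * g * c⁻¹ = rep j := by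
  obtain ⟨c, j, hj, h⟩ := H1.CoverTool.cover DS RS (fun g d hd => conj_DS g hd) (fun d hd => inv_DS hd) closure_DS
    one_mem_RS (fun r hr d hd => mul_RS hr hd) g
  exact ⟨j, hj, c, h⟩

/-- the representative as a product of fundamental transvections -/
theorem rep_eq {j : ℕ} (hj : j < 30) : rep j = ((rL j).map fun i => tr (enc (vcN i))).prod := by
  unfold rep wd
  rw [← rC_eq j hj, rC, List.map_map]
  rfl

end Cfsg.Agent.H970.Ore.SpCover
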