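import Cfsg.Agent.H729.PairCo3

/-!
# Words in the transvections of `Sp₆(2)` (helper970)

`sk d` : the transvection with code `d` on codes; `rn` : packed words; `wk` : words; `eq_of_bas` : two elements which agree on
the six basis vectors are equal.
-/

set_option autoImplicit false

namespace Cfsg.Agent.H970.Ore.SpTool

open Cfsg Cfsg.Agent.SporRec.TwoSp6.Sp Cfsg.Agent.H729.PairCo3

/-- exchange the two halves of a code -/
def swp (d : ℕ) : ℕ := Nat.lor (Nat.shiftRight d 3) (Nat.shiftLeft (Nat.land d 7) 3)

/-- the transvection on codes -/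
def sk (d c : ℕ) : ℕ := bif Nat.testBit 0x6996966996696996 (Nat.land (swp d) c) then Nat.xor c d else c

theorem sk_eq' : ∀ d < 64, ∀ c < 64, sk d c = sc d c ∧ sk d c < 64 := by decide +kernel

theorem act_sk {d c : ℕ} (hd : d < 64) (hc : c < 64) : act (tr (enc d)) (enc c) = enc (sk d c) := by
  rw [act_tr_enc, (sk_eq' d hd c hc).1]

/-- packed words -/
def rn : ℕ → ℕ → ℕ → ℕ
  | 0, _, x => x
  | n + 1, w, x => bif Nat.beq w 0 then x else sk (Nat.mod w 64) (rn n (Nat.div w 64) x)

/-- the element of a packed word -/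
def el : ℕ → ℕ → S
  | 0, _ => 1
  | n + 1, w => if w = 0 then 1 else tr (enc (w % 64)) * el n (w / 64)

theorem act_el (n : ℕ) : ∀ (w : ℕ) {x : ℕ}, x < 64 → act (el n w) (enc x) = enc (rn n w x) ∧ rn n w x < 64 := by
  induction n with
  | zero => intro w x hx; exact ⟨act_one _, hx⟩
  | succ n ih =>
    intro w x hx
    unfold el rn
    by_cases h : w = 0
    · subst h
      exact ⟨act_one _, hx⟩
    · rw [if_neg h]
      have hb : Nat.beq w 0 = false := by
        cases w with
        | zero => exact absurd rfl h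
        | succ k => rfl
      rw [hb, cond_false]
      obtain ⟨h1, h2⟩ := ih (w / 64) hx
      have hd : w % 64 < 64 := Nat.mod_lt _ (by norm_num)
      refine ⟨?_, (sk_eq' _ hd _ h2).2⟩
      rw [act_mul]
      erw [h1]
      exact act_sk hd h2

/-- words -/
def wk (l : List ℕ) (x : ℕ) : ℕ := l.foldr sk x

/-- the element of a word -/
def wd (l : List ℕ) : S := (l.map fun d => tr (enc d)).prod

theorem act_wd {l : List ℕ} (hl : ∀ d ∈ l, d < 64) {x : ℕ} (hx : x < 64) : act (wd l) (enc x) = enc (wk l x) ∧ wk l x < 64 := by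
  induction l with
  | nil => exact ⟨act_one _, hx⟩
  | cons d l ih =>
    obtain ⟨h1, h2⟩ := ih fun e he => hl e (List.mem_cons_of_mem _ he)
    have hd := hl d List.mem_cons_self
    refine ⟨?_, (sk_eq' _ hd _ h2).2⟩
    change act (tr (enc d) * wd l) (enc x) = _
    rw [act_mul, h1]
    exact act_sk hd h2

/-- the codes of the basis -/
def bas : List ℕ := [1, 2, 4, 8, 16, 32]

theorem bas_spec : ∀ c < 64, c ≠ 0 → ∃ b ∈ bas, ∃ c' < c, c = b ^^^ c' := by decide +kernel

theorem eq_of_bas {g h : S} (H : ∀ b ∈ bas, act g (enc b) = act h (enc b)) : g = h := by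
  have key : ∀ n c, c < n → c < 64 → act g (enc c) = act h (enc c) := by
    intro n
    induction n with
    | zero => intro c hc; exact absurd hc (Nat.not_lt_zero _)
    | succ n ih =>
      intro c hn hc
      by_cases h0 : c = 0
      · subst h0
        have e : enc 0 = enc 1 + enc 1 := by rw [← enc_xor]; rfl
        rw [e, act_add, act_add, H 1 (by simp [bas])]
      · obtain ⟨b, hb, c', hc', rfl⟩ := bas_spec c hc h0
        rw [enc_xor, act_add, act_add, H b hb, ih c' (by omega) (by omega)]
  apply act_ext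
  intro x
  obtain ⟨c, hc, rfl⟩ := exists_enc x
  exact key (c + 1) c (Nat.lt_succ_self _) hc

/-- the codes of the seven vectors -/
def vcN (i : ℕ) : ℕ := [1, 48, 8, 3, 16, 6, 32].getD i 0

theorem vcN_lt (i : ℕ) : vcN i < 64 := by
  have h : ∀ i < 7, vcN i < 64 := by decide
  by_cases hi : i < 7
  · exact h i hi
  · have : vcN i = 0 := by
      unfold vcN
      rw [List.getD_eq_default]
      exact Nat.le_of_not_lt hi
    omega

theorem v_eq (i : Fin 7) : v i = enc (vcN i) := rfl

end Cfsg.Agent.H970.Ore.SpTool
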